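import Groth.Agent.FFLib.Rational
import Groth.Agent.FFLib.Ram.SepPlaces
import Groth.Agent.S11002
import Groth.Agent.S11000

/-!
# Separating functions in a Riemann-Roch space and separable places of small degree
-/

set_option autoImplicit false
set_option maxHeartbeats 1000000
set_option linter.style.haveILetI false
set_option linter.unusedSectionVars false

namespace Groth.Agent.SepPoint

open FunFld WithZero IntermediateField Groth.Agent.FFLib

universe u v w

section Pow

variable {kb Lb : Type*} [Field kb] [IsAlgClosed kb] [Field Lb] [Algebra kb Lb]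

/-- A space of `g` independent functions with poles bounded by a divisor of degree at most `2g - 2` is not
contained in the `p`-th powers. -/
theorem exists_not_pow (hL : IsFunctionField kb Lb) (p : ℕ) [hp : Fact p.Prime] [CharP Lb p] {g : ℕ}
    (hg : genus kb Lb = g) (hg2 : 2 ≤ g) {E : Divisor kb Lb} (hE : 0 ≤ E) (hd : E.deg ≤ 2 * (g : ℤ) - 2)
    (s : Fin g → Lb) (hs : LinearIndependent kb s) (hsE : ∀ i, s i ∈ FunFld.L (E : Divisor kb Lb)) :
    ∃ i, ∀ y, y ^ p ≠ s i := by
  classical
  by_contra hall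
  push Not at hall
  choose y hy using hall
  have hp2 : (2 : ℤ) ≤ p := by exact_mod_cast hp.out.two_le
  have hp0 : (0 : ℤ) < p := by omega
  let D : Divisor kb Lb := E.mapRange (fun n => n / (p : ℤ)) (by simp)
  have hD0 : 0 ≤ D := fun P => by
    simp only [D, Finsupp.mapRange_apply, Finsupp.coe_zero, Pi.zero_apply]
    exact Int.ediv_nonneg (hE P) hp0.le
  have hyD : ∀ i, y i ∈ FunFld.L (D : Divisor kb Lb) := fun i => by
    by_cases h0 : y i = 0
    · rw [h0]; exact zero_mem _
    refine (mem_L_iff_ord h0).2 fun P => ?_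
    have h1 := (mem_L_iff_ord (pow_ne_zero p h0)).1 (by rw [hy i]; exact hsE i) P
    rw [ord_pow] at h1
    have h2 : -(P.ord (y i)) ≤ E P / (p : ℤ) := (Int.le_ediv_iff_mul_le hp0).2 (by
      have : (p : ℤ) * P.ord (y i) + E P ≥ 0 := by push_cast at h1 ⊢; linarith
      rw [neg_mul, mul_comm]; linarith)
    simp only [D, Finsupp.mapRange_apply]
    linarith
  have hyi : LinearIndependent kb y := by
    rw [Fintype.linearIndependent_iff] at hs ⊢
    intro c hc i
    have h := hs (fun j => c j ^ p) (by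
      haveI : ExpChar Lb p := .prime hp.out
      have h1 := congrArg (frobenius Lb p) hc
      rw [map_sum, map_zero] at h1
      rw [← h1]
      refine Finset.sum_congr rfl fun j _ => ?_
      rw [Algebra.smul_def, Algebra.smul_def, map_mul, map_pow, ← hy j]
      rfl) i
    exact eq_zero_of_pow_eq_zero h
  have hl : g ≤ ell D := by
    haveI := L_finite hL.1 D
    let w : Fin g → FunFld.L (D : Divisor kb Lb) := fun i => ⟨y i, hyD i⟩
    have hw : LinearIndependent kb w := LinearIndependent.of_comp (Submodule.subtype _) hyi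
    simpa [ell] using hw.fintype_card_le_finrank
  have hle : ell D ≤ D.deg + 1 := by
    have h := (ell_le_of_le hL.1 (D := (0 : Divisor kb Lb)) (E := D) hD0).2
    rw [ell_zero hL, Divisor.deg_zero] at h
    push_cast at h ⊢
    linarith
  have hdeg : 2 * D.deg ≤ E.deg := by
    have h : (0 : Divisor kb Lb) ≤ E - (2 : ℤ) • D := fun P => by
      simp only [D, Finsupp.coe_zero, Pi.zero_apply, Finsupp.sub_apply, Finsupp.smul_apply,
        Finsupp.mapRange_apply, smul_eq_mul]
      have h1 : E P / (p : ℤ) * p ≤ E P := Int.ediv_mul_le _ hp0.ne'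
      have h2 : 0 ≤ E P / (p : ℤ) := Int.ediv_nonneg (hE P) hp0.le
      nlinarith
    have h2 := Divisor.deg_nonneg h
    rw [Divisor.deg_sub, two_smul, Divisor.deg_add] at h2
    linarith
  have hDd : D.deg = (g : ℤ) - 1 := by omega
  obtain ⟨P, hP⟩ : ∃ P, 0 < D P := by
    by_contra! hno
    have : D = 0 := Finsupp.ext fun P => le_antisymm (hno P) (hD0 P)
    rw [this, Divisor.deg_zero] at hDd
    omega
  have hPd := deg_eq_one hL.1 P
  have h := (ell_le_of_le hL.1 (D := Finsupp.single P (1 : ℤ)) (E := D) (fun Q => by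
    by_cases hQ : P = Q
    · subst hQ; simp; omega
    · simpa [hQ] using hD0 Q)).2
  rw [ell_single_one hL (by omega) hPd, Divisor.deg_single, hPd] at h
  push_cast at h
  omega

end Pow

section Separating

variable {k : Type u} {K : Type v} [Field k] [Field K] [Algebra k K] {kb : Type u} {Lb : Type w}
  [Field kb] [IsAlgClosed kb] [Field Lb] [Algebra kb Lb]

theorem isSeparable_of_charZero [CharZero k] {x : K} [FiniteDimensional k⟮x⟯ K] :
    Algebra.IsSeparable k⟮x⟯ K := by
  haveI : CharZero k⟮x⟯ := charZero_of_injective_algebraMap (algebraMap k k⟮x⟯).injective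
  exact Algebra.IsAlgebraic.isSeparable_of_perfectField

/-- A function which is not separating becomes a `p`-th power over an algebraically closed field. -/
theorem exists_pow_of_not_separating (hK : IsFunctionField k K) (hKg : IsGeometric k K) (p : ℕ)
    [Fact p.Prime] [CharP K p] [CharP Lb p] (γ : k →+* kb) (ι : K →+* Lb)
    (hι : ι.comp (algebraMap k K) = (algebraMap kb Lb).comp γ) {x : K}
    (hx : ¬ Algebra.IsSeparable k⟮x⟯ K) : ∃ y, y ^ p = ι x := by
  have hp : p.Prime := Fact.out
  have hmem := ((S11002.result k K p hK hKg x).2).2 hx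
  clear hx
  haveI : ExpChar Lb p := .prime hp
  induction hmem using IntermediateField.adjoin_induction with
  | mem a ha =>
    obtain ⟨b, rfl⟩ := ha
    exact ⟨ι b, (map_pow ι b p).symm⟩
  | algebraMap c =>
    obtain ⟨d, hd⟩ := IsAlgClosed.exists_pow_nat_eq (γ c) hp.pos
    exact ⟨algebraMap kb Lb d, by rw [← map_pow, hd]; exact (congr($hι c)).symm⟩
  | add a b _ _ ha hb =>
    obtain ⟨u, hu⟩ := ha
    obtain ⟨w, hw⟩ := hb
    exact ⟨u + w, by rw [add_pow_char, hu, hw, map_add]⟩
  | inv a _ ha =>
    obtain ⟨u, hu⟩ := ha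
    exact ⟨u⁻¹, by rw [inv_pow, hu, map_inv₀]⟩
  | mul a b _ _ ha hb =>
    obtain ⟨u, hu⟩ := ha
    obtain ⟨w, hw⟩ := hb
    exact ⟨u * w, by rw [mul_pow, hu, hw, map_mul]⟩

end Separating

section Places

variable {k : Type u} {K : Type v} [Field k] [Field K] [Algebra k K]

/-- A separating function gives separable places of degree at most its degree. -/
theorem exists_separable_place [Infinite k] (hK : IsFunctionField k K) {x : K} (hx : Transcendental k x)
    [Algebra.IsSeparable k⟮x⟯ K] :
    ∃ Q : Place k K, Algebra.IsSeparable k (Res Q) ∧ (Q.deg : ℤ) ≤ Module.finrank k⟮x⟯ K := by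
  classical
  haveI := IsFF.finite_adjoin hK.1 hx
  let x₀ : k⟮x⟯ := AdjoinSimple.gen k x
  have hx₀ : Transcendental k x₀ := fun h => hx (h.algHom (IntermediateField.val _))
  have htop : k⟮x₀⟯ = ⊤ := by
    apply IntermediateField.map_injective (k⟮x⟯).val
    rw [IntermediateField.adjoin_map, Set.image_singleton, ← AlgHom.fieldRange_eq_map,
      IntermediateField.fieldRange_val]
    rfl
  have htop' : ∀ c : k, k⟮x₀ - algebraMap k _ c⟯ = ⊤ := fun c => by
    rw [eq_top_iff, ← htop, adjoin_simple_le_iff]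
    have h := add_mem (mem_adjoin_simple_self k (x₀ - algebraMap k _ c))
      (IntermediateField.algebraMap_mem k⟮x₀ - algebraMap k _ c⟯ c)
    rwa [sub_add_cancel] at h
  have hF : IsFF k k⟮x⟯ := ⟨x₀, hx₀, by
    rw [htop]; exact Module.Finite.of_surjective (Algebra.linearMap _ _) fun a => ⟨⟨a, trivial⟩, rfl⟩⟩
  have hzero : ∀ c : k, ∃ P : Place k k⟮x⟯, P.1 (x₀ - algebraMap k _ c) < 1 ∧ P.deg = 1 := fun c => by
    have htc : Transcendental k (x₀ - algebraMap k _ c) := fun h => hx₀ (by
      simpa using h.add (isAlgebraic_algebraMap c))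
    obtain ⟨P, hP⟩ := exists_place_zero hF htc
    refine ⟨P, hP, ?_⟩
    have h := sum_ord_deg_le hF {P} htc (fun Q hQ => by rwa [Finset.mem_singleton.mp hQ])
    rw [Finset.sum_singleton] at h
    have h1 : Module.finrank k⟮x₀ - algebraMap k k⟮x⟯ c⟯ k⟮x⟯ = 1 := by
      rw [htop' c]; exact IntermediateField.finrank_top
    rw [h1] at h
    have hne : x₀ - algebraMap k _ c ≠ 0 := fun e => htc (e ▸ isAlgebraic_zero)
    have h2 := (val_lt_one_iff P hne).mp hP
    have h3 := deg_pos hF P
    push_cast at h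
    have h4 : (P.deg : ℤ) ≤ P.ord (x₀ - algebraMap k _ c) * (P.deg : ℤ) := le_mul_of_one_le_left (by positivity) (by omega)
    omega
  choose Pc hPc hdeg using hzero
  have hPinj : Function.Injective Pc := fun a b hab => by
    by_contra hne
    have h2 := Valuation.map_sub_lt (Pc a).1 (hPc a) (hab ▸ hPc b)
    rw [sub_sub_sub_cancel_left, ← map_sub, val_algebraMap _ (sub_ne_zero.mpr (Ne.symm hne))] at h2
    exact lt_irrefl _ h2
  obtain ⟨S, hS, hgood⟩ := finite_bad (K' := K) hF
  obtain ⟨c, hc⟩ := ((hS.preimage hPinj.injOn).infinite_compl).nonempty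
  obtain ⟨Q, hQ⟩ := exists_isOver (K' := K) hF (Pc c)
  refine ⟨Q, (hgood _ hc _ hQ).2 (hdeg c), ?_⟩
  let Qs := (over_finite (K' := K) hF (Pc c)).toFinset
  have hsum := sum_ram_deg hF (Pc c) Qs (fun R => Set.Finite.mem_toFinset _)
  have hram : 1 ≤ ramIdx Q (Pc c) := by
    have h1 := (hgood _ hc _ hQ).1
    rw [ramIdx_eq hF h1]
  have h1 : ramIdx Q (Pc c) * Q.deg ≤ ∑ R ∈ Qs, ramIdx R (Pc c) * R.deg :=
    Finset.single_le_sum (f := fun R => ramIdx R (Pc c) * R.deg) (fun _ _ => Nat.zero_le _)
      ((Set.Finite.mem_toFinset _).2 hQ)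
  rw [hsum, hdeg c, mul_one] at h1
  exact_mod_cast (Nat.le_mul_of_pos_left _ hram).trans h1

end Places

end Groth.Agent.SepPoint
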