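import Groth.Agent.SepPoint.Bar
import Groth.Agent.SepPoint.Field

/-!
# A point with separable residue field of degree at most `2g - 2`
-/

noncomputable section

set_option autoImplicit false
set_option maxHeartbeats 1600000
set_option linter.style.haveILetI false
set_option linter.unusedSectionVars false
set_option backward.isDefEq.respectTransparency false
set_option backward.isDefEq.respectTransparency.types false

universe u

open CategoryTheory CategoryTheory.Limits AlgebraicGeometry TopologicalSpace TensorProduct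
open scoped IntermediateField

namespace Groth.Agent.SepPoint

open Groth.Agent

attribute [local instance] ZetaCurve.ffAlg CurveBC.overBar barAlg

variable (k : Type u) [Field k]

theorem linearIndependent_map_tensor {K L C : Type u} [Field K] [Algebra k K] [Field C] [Algebra k C] [Field L]
    [Algebra k L] [Algebra C L] [IsScalarTower k C L] (f : K →ₐ[k] L)
    (hf : Function.Injective (Algebra.TensorProduct.productMap f (IsScalarTower.toAlgHom k C L))) {ι : Type*}
    [Fintype ι] {y : ι → K} (hy : LinearIndependent k y) : LinearIndependent C fun i => f (y i) := by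
  classical
  rw [Fintype.linearIndependent_iff]
  intro c hc j
  have hz : (∑ i, y i ⊗ₜ[k] c i) = 0 := by
    apply hf
    rw [map_sum, map_zero, ← hc]
    refine Finset.sum_congr rfl fun i _ => ?_
    rw [Algebra.TensorProduct.productMap_apply_tmul, Algebra.smul_def, mul_comm]
    rfl
  obtain ⟨φ, hφ⟩ := LinearMap.exists_extend ((Finsupp.lapply j).comp hy.repr)
  have h1 := congrArg ((TensorProduct.lid k C).toLinearMap ∘ₗ LinearMap.rTensor C φ) hz
  rw [map_sum, map_zero, Finset.sum_eq_single j] at h1
  · simp only [LinearMap.comp_apply, LinearMap.rTensor_tmul, LinearEquiv.coe_coe, TensorProduct.lid_tmul] at h1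
    have h2 := congr($hφ ⟨y j, Submodule.subset_span ⟨j, rfl⟩⟩)
    simp only [LinearMap.comp_apply, Submodule.coe_subtype, Finsupp.lapply_apply] at h2
    rw [h2, hy.repr_eq_single j _ rfl, Finsupp.single_eq_same, one_smul] at h1
    exact h1
  · intro i _ hij
    simp only [LinearMap.comp_apply, LinearMap.rTensor_tmul, LinearEquiv.coe_coe, TensorProduct.lid_tmul]
    have h2 := congr($hφ ⟨y i, Submodule.subset_span ⟨i, rfl⟩⟩)
    simp only [LinearMap.comp_apply, Submodule.coe_subtype, Finsupp.lapply_apply] at h2
    rw [h2, hy.repr_eq_single i _ rfl, Finsupp.single_eq_of_ne hij.symm, zero_smul]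
  · simp

theorem isGeometric_of_injective {K L C : Type u} [Field K] [Algebra k K] [Field C] [Algebra k C] [IsAlgClosed C]
    [Field L] [Algebra k L] (g : K ⊗[k] C →ₐ[k] L) (hg : Function.Injective g) :
    FunFld.IsGeometric k K := by
  intro k' _ _ hfin
  haveI := hfin
  let γ : k' →ₐ[k] C := IsAlgClosed.lift
  let h : K ⊗[k] k' →ₐ[k] L := g.comp (Algebra.TensorProduct.map (AlgHom.id k K) γ)
  have hh : Function.Injective h := hg.comp
    (Module.Flat.lTensor_preserves_injective_linearMap (M := K) γ.toLinearMap γ.toRingHom.injective)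
  haveI : IsDomain (K ⊗[k] k') := Function.Injective.isDomain h.toRingHom hh
  haveI : Algebra.IsIntegral K (K ⊗[k] k') := Algebra.IsIntegral.of_finite K _
  exact (Algebra.TensorProduct.comm k k' K).toMulEquiv.isField
    (isField_of_isIntegral_of_isField' (Field.toIsField K))

variable (X : Scheme.{u}) [X.Over (Spec (CommRingCat.of k))] [IsIntegral X]
  [IsProper (X ↘ Spec (CommRingCat.of k))] [Smooth (X ↘ Spec (CommRingCat.of k))]
  (hdim : topologicalKrullDim X = 1)

/-- The residue field of a closed point is that of its place. -/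
def resEquiv (z : ZetaCurve.Pt X) :
    letI := Curv2.resAlgebra k X z.1
    X.residueField z.1 ≃ₐ[k] FFLib.Res (ZetaCurve.pl k X hdim z) :=
  letI := Curv2.resAlgebra k X z.1
  let P := ZetaCurve.pl k X hdim z
  let φ : X.presheaf.stalk z.1 →+* P.O :=
    (algebraMap (X.presheaf.stalk z.1) X.functionField).codRestrict P.O
      fun a => (ZetaCurve.valAt_le_one_iff k X hdim z _).2 ⟨a, rfl⟩
  have hφ : Function.Bijective φ :=
    ⟨fun _ _ h => IsFractionRing.injective (X.presheaf.stalk z.1) X.functionField (Subtype.ext_iff.mp h),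
      fun c => by
        obtain ⟨a, ha⟩ := (ZetaCurve.valAt_le_one_iff k X hdim z c.1).1 c.2
        exact ⟨a, Subtype.ext ha⟩⟩
  let e' : X.residueField z.1 ≃+* IsLocalRing.ResidueField P.O :=
    IsLocalRing.ResidueField.mapEquiv (RingEquiv.ofBijective φ hφ)
  AlgEquiv.ofRingEquiv (f := e') fun c => by
    show IsLocalRing.residue P.O (φ (Curv2.stalkMap k X z.1 c)) =
      IsLocalRing.residue P.O (algebraMap k P.O c)
    exact congrArg _ (Subtype.ext (ZetaCurve.algebraMap_eq k X z.1 c).symm)

attribute [local instance] Curv2.resAlgebra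

include hdim in
/-- A point with separable residue field of degree at most `2g - 2`. -/
theorem exists_separable_point (h0 : Module.finrank k (Coh.HH X (Coh.structureModule X) 0) = 1)
    (hg : 2 ≤ Curv2.genus k X) :
    ∃ x : X, IsClosed ({x} : Set X) ∧ Algebra.IsSeparable k (X.residueField x) ∧
      Module.finrank k (X.residueField x) ≤ 2 * Curv2.genus k X - 2 ∧ FiniteDimensional k (X.residueField x) := by
  classical
  obtain ⟨hp, hsm, hint, hdim', hflat, hsurj⟩ := CurveBC.bar_facts k X hdim h0
  haveI := hp; haveI := hsm; haveI := hint; haveI := hflat; haveI := hsurj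
  have hpb := CurveBC.isPullback_bar k X
  haveI := quasiSeparatedSpace_of_quasiSeparated (X ↘ Spec (CommRingCat.of k))
  haveI := QuasiCompact.compactSpace_of_compactSpace (X ↘ Spec (CommRingCat.of k))
  have h0' := CurveBC.finrank_h0 k (AlgebraicClosure k) (Curv2.bcFst k X (AlgebraicClosure k)) hpb h0
  have hK := ZetaCurve.isFunctionField k X hdim h0
  have hL := ZetaCurve.isFunctionField (AlgebraicClosure k) (Curv2.bc k X (AlgebraicClosure k)) hdim' h0'
  set g := Curv2.genus k X with hgdef
  have hgL : FunFld.genus (AlgebraicClosure k) (Curv2.bc k X (AlgebraicClosure k)).functionField = g := by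
    rw [ZetaCurve.genus_eq (AlgebraicClosure k) _ hdim' h0',
      CurveBC.genus_eq k (AlgebraicClosure k) (Curv2.bcFst k X (AlgebraicClosure k)) hpb]
  have hπ : Curv2.bcFst k X (AlgebraicClosure k) (genericPoint (Curv2.bc k X (AlgebraicClosure k))) =
      genericPoint X := by
    have hs : Curv2.bcFst k X (AlgebraicClosure k) '' Set.univ = Set.univ :=
      Set.image_univ.trans hsurj.surj.range_eq
    have hgp := (genericPoint_spec (Curv2.bc k X (AlgebraicClosure k))).image
      (Curv2.bcFst k X (AlgebraicClosure k)).continuous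
    rw [hs, closure_univ] at hgp
    exact hgp.eq (genericPoint_spec X)
  have hcl : ∀ z' : (Curv2.bc k X (AlgebraicClosure k)),
      IsClosed ({z'} : Set (Curv2.bc k X (AlgebraicClosure k))) →
      IsClosed ({Curv2.bcFst k X (AlgebraicClosure k) z'} : Set X) := by
    haveI : IsIntegralHom (Spec.map (CommRingCat.ofHom (algebraMap k (AlgebraicClosure k)))) :=
      IsIntegralHom.SpecMap_iff.2 fun x => Algebra.IsIntegral.isIntegral x
    haveI : IsIntegralHom (Curv2.bcFst k X (AlgebraicClosure k)) :=
      MorphismProperty.of_isPullback hpb.flip inferInstance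
    intro z' hz'
    have h := (Curv2.bcFst k X (AlgebraicClosure k)).isClosedMap _ hz'
    rwa [Set.image_singleton] at h
  -- the canonical module and its divisors
  have hM := CurveBC.isInvertible_omega k X hdim h0
  obtain ⟨hinv1, hinv2⟩ := CurveBC.canonical_invariants k X hdim h0
  have hq := QCoh.isQCoh_of_isFinLocFree (CurveBC.isFinLocFree_omega k X)
  set M := Omega.sheaf (X ↘ Spec (CommRingCat.of k))
  obtain ⟨U₀, h₀, e₀, he₀⟩ := InvX.exists_frame hM (genericPoint X)
  have h₀' : genericPoint (Curv2.bc k X (AlgebraicClosure k)) ∈ Curv2.bcFst k X (AlgebraicClosure k) ⁻¹ᵁ U₀ :=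
    show Curv2.bcFst k X (AlgebraicClosure k) (genericPoint _) ∈ U₀ from hπ ▸ h₀
  set D := ZetaCurve.divisor k hdim hM he₀ h₀ with hDdef
  set D' := ZetaCurve.divisor (AlgebraicClosure k) hdim' (PicClLib.isInvertible_pullback (Curv2.bcFst k X (AlgebraicClosure k)) hM)
    (InvX.isFrame_pullElt (Curv2.bcFst k X (AlgebraicClosure k)) he₀) h₀' with hD'def
  have hell : Module.finrank k (FunFld.L D) = g :=
    (ZetaCurve.finrank_h0_eq_ell k hdim hM he₀ h₀).symm.trans hinv1
  have hdD : D.deg = 2 * (g : ℤ) - 2 := by
    rw [hDdef, ZetaCurve.deg_divisor k hdim h0 hM he₀ h₀, hinv2]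
  have hdD' : D'.deg = 2 * (g : ℤ) - 2 := by
    rw [hD'def, ZetaCurve.deg_divisor (AlgebraicClosure k) hdim' h0',
      CurveBC.deg_eq k (AlgebraicClosure k) (Curv2.bcFst k X (AlgebraicClosure k)) hpb M hq 1, hinv2]
  haveI := FFLib.L_finite hK.1 D
  let b := Module.finBasisOfFinrankEq k (FunFld.L D) hell
  let i₀ : Fin g := ⟨0, by omega⟩
  let x₀ : X.functionField := (b i₀).1
  have hx₀ : x₀ ≠ 0 := fun h => b.ne_zero i₀ (Subtype.ext h)
  let y : Fin g → X.functionField := fun i => x₀⁻¹ * (b i).1
  have hy : LinearIndependent k y :=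
    (b.linearIndependent.map' (FunFld.L D).subtype (Submodule.ker_subtype _)).map'
      (LinearMap.mulLeft k x₀⁻¹) (LinearMap.ker_eq_bot.2 (mul_right_injective₀ (inv_ne_zero hx₀)))
  have hy0 : y i₀ = 1 := inv_mul_cancel₀ hx₀
  let f := iotaAlg k hπ
  let s : Fin g → (Curv2.bc k X (AlgebraicClosure k)).functionField := fun i => f (y i)
  have hs : LinearIndependent (AlgebraicClosure k) s :=
    linearIndependent_map_tensor k f (injective_tensor k hπ) hy
  have hfx : f x₀ ≠ 0 := (map_ne_zero f).2 hx₀
  set E : FunFld.Divisor k X.functionField := D + FunFld.div k x₀ with hEdef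
  set E' : FunFld.Divisor (AlgebraicClosure k) (Curv2.bc k X (AlgebraicClosure k)).functionField :=
    D' + FunFld.div (AlgebraicClosure k) (f x₀) with hE'def
  have hyE : ∀ i, y i ∈ FunFld.L E := fun i => (FFLib.mul_mem_L_iff hK.1 hx₀ _).1 (by
    rw [show x₀ * y i = (b i).1 from mul_inv_cancel_left₀ hx₀ _]
    exact (b i).2)
  have hsE : ∀ i, s i ∈ FunFld.L E' := fun i => (FFLib.mul_mem_L_iff hL.1 hfx _).1 (by
    rw [show f x₀ * s i = f (b i).1 by rw [← map_mul, show x₀ * y i = (b i).1 from mul_inv_cancel_left₀ hx₀ _]]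
    exact iota_mem_L k hπ hdim hdim' hcl hM he₀ h₀ h₀' (b i).2)
  have hE0 : 0 ≤ E := fun P => by
    have h := hyE i₀ P
    rw [hy0, map_one, ← WithZero.exp_zero, WithZero.exp_le_exp] at h
    exact h
  have hE'0 : 0 ≤ E' := fun P => by
    have h := hsE i₀ P
    simp only [s] at h
    rw [hy0, map_one, map_one, ← WithZero.exp_zero, WithZero.exp_le_exp] at h
    exact h
  have hdE : E.deg = 2 * (g : ℤ) - 2 := by
    rw [hEdef, FFLib.Divisor.deg_add, FFLib.deg_div hK.1, hdD, add_zero]
  have hdE' : E'.deg = 2 * (g : ℤ) - 2 := by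
    rw [hE'def, FFLib.Divisor.deg_add, FFLib.deg_div hL.1, hdD', add_zero]
  -- transfer to points
  have key : (∃ Q : FunFld.Place k X.functionField, Algebra.IsSeparable k (FFLib.Res Q) ∧
      (Q.deg : ℤ) ≤ 2 * (g : ℤ) - 2) → ∃ x : X, IsClosed ({x} : Set X) ∧
      Algebra.IsSeparable k (X.residueField x) ∧
      Module.finrank k (X.residueField x) ≤ 2 * g - 2 ∧ FiniteDimensional k (X.residueField x) := by
    rintro ⟨Q, hQs, hQd⟩
    obtain ⟨z, rfl⟩ := (ZetaCurve.pl k X hdim).surjective Q
    haveI := hQs
    haveI := FFLib.residue_finite hK.1 (ZetaCurve.pl k X hdim z)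
    let e := resEquiv k X hdim z
    refine ⟨z.1, z.2, Algebra.IsSeparable.of_algHom k _ e.toAlgHom, ?_, Module.Finite.equiv e.symm.toLinearEquiv⟩
    rw [← ZetaCurve.deg_pl k X hdim z]
    omega
  apply key
  rcases finite_or_infinite k with hfin | hinf
  · obtain ⟨P, hP⟩ : ∃ P, 0 < E P := by
      by_contra! hno
      have : E = 0 := Finsupp.ext fun P => le_antisymm (hno P) (hE0 P)
      rw [this, FFLib.Divisor.deg_zero] at hdE
      omega
    haveI := FFLib.residue_finite hK.1 P
    refine ⟨P, Algebra.IsAlgebraic.isSeparable_of_perfectField, ?_⟩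
    have h : (0 : FunFld.Divisor k X.functionField) ≤ E - Finsupp.single P 1 := fun R => by
      by_cases hR : P = R
      · subst hR; simp; omega
      · simpa [hR] using hE0 R
    have h2 := FFLib.Divisor.deg_nonneg h
    rw [FFLib.Divisor.deg_sub, FFLib.Divisor.deg_single, one_mul, hdE] at h2
    linarith
  · obtain ⟨i, hxt, hsep⟩ : ∃ i, Transcendental k (y i) ∧ Algebra.IsSeparable k⟮y i⟯ X.functionField := by
      obtain ⟨p, hp⟩ := CharP.exists k
      rcases Nat.eq_zero_or_pos p with rfl | hp0
      · haveI : CharZero k := CharP.charP_to_charZero k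
        let i₁ : Fin g := ⟨1, by omega⟩
        have ht : Transcendental k (y i₁) := fun h => by
          obtain ⟨c, hc⟩ := hK.2 _ h
          have h2 := Fintype.linearIndependent_iff.1 hy (fun j => if j = i₁ then 1 else if j = i₀ then -c else 0)
            (by
              rw [Finset.sum_eq_add_of_mem i₁ i₀ (Finset.mem_univ _) (Finset.mem_univ _)
                (by simp [i₁, i₀]) (fun j _ hj => by simp [hj.1, hj.2])]
              rw [if_pos rfl, if_neg (by simp [i₁, i₀]), if_pos rfl, one_smul, neg_smul, hy0, ← hc,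
                Algebra.smul_def, mul_one, add_neg_cancel]) i₁
          simp at h2
        haveI := FFLib.IsFF.finite_adjoin hK.1 ht
        exact ⟨i₁, ht, isSeparable_of_charZero⟩
      · haveI : NeZero p := ⟨hp0.ne'⟩
        haveI : Fact p.Prime := CharP.char_is_prime_of_pos k p
        haveI : CharP X.functionField p := charP_of_injective_ringHom (algebraMap k X.functionField).injective p
        haveI : CharP (Curv2.bc k X (AlgebraicClosure k)).functionField p :=
          charP_of_injective_ringHom (algebraMap k (Curv2.bc k X (AlgebraicClosure k)).functionField).injective p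
        obtain ⟨i, hi⟩ := exists_not_pow hL p hgL hg hE'0 hdE'.le s hs hsE
        refine ⟨i, fun h => ?_, ?_⟩
        · obtain ⟨c, hc⟩ := hK.2 _ h
          obtain ⟨d, hd⟩ := IsAlgClosed.exists_pow_nat_eq (algebraMap k (AlgebraicClosure k) c)
            (Nat.Prime.pos (Fact.out : p.Prime))
          refine hi (algebraMap _ _ d) ?_
          rw [← map_pow, hd]
          show _ = f (y i)
          rw [← hc, AlgHom.commutes]
          rfl
        · by_contra hns
          obtain ⟨w, hw⟩ := exists_pow_of_not_separating hK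
            (isGeometric_of_injective k _ (injective_tensor k hπ)) p (algebraMap k (AlgebraicClosure k))
            (iota k hπ).hom (iota_comp k hπ) hns
          exact hi w hw
    haveI := hsep
    obtain ⟨Q, hQs, hQd⟩ := exists_separable_place hK hxt
    refine ⟨Q, hQs, hQd.trans ?_⟩
    rw [← FFLib.deg_poles hK.1 hxt]
    have h : (0 : FunFld.Divisor k X.functionField) ≤ E - FFLib.poles (y i) := fun R => by
      have h1 := (FFLib.mem_L_iff_ord (fun e => hxt (by rw [e]; exact isAlgebraic_zero))).1 (hyE i) R
      have h2 := hE0 R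
      simp only [Finsupp.coe_zero, Pi.zero_apply, Finsupp.sub_apply, FFLib.poles, Finsupp.mapRange_apply,
        FFLib.div_apply hK.1] at h2 ⊢
      omega
    have h2 := FFLib.Divisor.deg_nonneg h
    rw [FFLib.Divisor.deg_sub, hdE] at h2
    linarith

end Groth.Agent.SepPoint
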