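import Groth.Agent.SepPoint.Main
import Groth.Agent.S1635

/-!
# A point with separable residue field of degree at most two on a conic
-/

noncomputable section

set_option autoImplicit false
set_option maxHeartbeats 1600000
set_option linter.style.haveILetI false
set_option linter.unusedSectionVars false
set_option backward.isDefEq.respectTransparency false
set_option backward.isDefEq.respectTransparency.types false

universe u

open CategoryTheory CategoryTheory.Limits AlgebraicGeometry TopologicalSpace TensorProduct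
open scoped IntermediateField

namespace Groth.Agent.SepPoint

open Groth.Agent

section Pow

open FunFld WithZero Groth.Agent.FFLib

variable {kb Lb : Type*} [Field kb] [IsAlgClosed kb] [Field Lb] [Algebra kb Lb]

/-- Independent functions, too many for half the degree of their poles, are not all `p`-th powers. -/
theorem exists_not_pow_of_lt (hL : IsFunctionField kb Lb) (p : ℕ) [hp : Fact p.Prime] [CharP Lb p] {g : ℕ}
    {d : ℤ} (hdg : d + 2 < 2 * (g : ℤ)) {E : Divisor kb Lb} (hE : 0 ≤ E) (hd : E.deg ≤ d)
    (s : Fin g → Lb) (hs : LinearIndependent kb s) (hsE : ∀ i, s i ∈ FunFld.L (E : Divisor kb Lb)) :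
    ∃ i, ∀ y, y ^ p ≠ s i := by
  classical
  by_contra hall
  push Not at hall
  choose y hy using hall
  have hp2 : (2 : ℤ) ≤ p := by exact_mod_cast hp.out.two_le
  have hp0 : (0 : ℤ) < p := by omega
  let D : Divisor kb Lb := E.mapRange (fun n => n / (p : ℤ)) (by simp)
  have hD0 : 0 ≤ D := fun P => by
    simp only [D, Finsupp.mapRange_apply, Finsupp.coe_zero, Pi.zero_apply]
    exact Int.ediv_nonneg (hE P) hp0.le
  have hyD : ∀ i, y i ∈ FunFld.L (D : Divisor kb Lb) := fun i => by
    by_cases h0 : y i = 0
    · rw [h0]; exact zero_mem _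
    refine (mem_L_iff_ord h0).2 fun P => ?_
    have h1 := (mem_L_iff_ord (pow_ne_zero p h0)).1 (by rw [hy i]; exact hsE i) P
    rw [ord_pow] at h1
    have h2 : -(P.ord (y i)) ≤ E P / (p : ℤ) := (Int.le_ediv_iff_mul_le hp0).2 (by
      have : (p : ℤ) * P.ord (y i) + E P ≥ 0 := by push_cast at h1 ⊢; linarith
      rw [neg_mul, mul_comm]; linarith)
    simp only [D, Finsupp.mapRange_apply]
    linarith
  have hyi : LinearIndependent kb y := by
    rw [Fintype.linearIndependent_iff] at hs ⊢
    intro c hc i
    have h := hs (fun j => c j ^ p) (by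
      haveI : ExpChar Lb p := .prime hp.out
      have h1 := congrArg (frobenius Lb p) hc
      rw [map_sum, map_zero] at h1
      rw [← h1]
      refine Finset.sum_congr rfl fun j _ => ?_
      rw [Algebra.smul_def, Algebra.smul_def, map_mul, map_pow, ← hy j]
      rfl) i
    exact eq_zero_of_pow_eq_zero h
  have hl : g ≤ ell D := by
    haveI := L_finite hL.1 D
    let w : Fin g → FunFld.L (D : Divisor kb Lb) := fun i => ⟨y i, hyD i⟩
    have hw : LinearIndependent kb w := LinearIndependent.of_comp (Submodule.subtype _) hyi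
    simpa [ell] using hw.fintype_card_le_finrank
  have hle : ell D ≤ D.deg + 1 := by
    have h := (ell_le_of_le hL.1 (D := (0 : Divisor kb Lb)) (E := D) hD0).2
    rw [ell_zero hL, Divisor.deg_zero] at h
    push_cast at h ⊢
    linarith
  have hdeg : 2 * D.deg ≤ E.deg := by
    have h : (0 : Divisor kb Lb) ≤ E - (2 : ℤ) • D := fun P => by
      simp only [D, Finsupp.coe_zero, Pi.zero_apply, Finsupp.sub_apply, Finsupp.smul_apply,
        Finsupp.mapRange_apply, smul_eq_mul]
      have h1 : E P / (p : ℤ) * p ≤ E P := Int.ediv_mul_le _ hp0.ne'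
      have h2 : 0 ≤ E P / (p : ℤ) := Int.ediv_nonneg (hE P) hp0.le
      nlinarith
    have h2 := Divisor.deg_nonneg h
    rw [Divisor.deg_sub, two_smul, Divisor.deg_add] at h2
    linarith
  omega

end Pow

attribute [local instance] ZetaCurve.ffAlg CurveBC.overBar barAlg Curv2.resAlgebra

variable (k : Type u) [Field k] (X : Scheme.{u}) [X.Over (Spec (CommRingCat.of k))] [IsIntegral X]
  [IsProper (X ↘ Spec (CommRingCat.of k))] [Smooth (X ↘ Spec (CommRingCat.of k))]
  (hdim : topologicalKrullDim X = 1)

include hdim in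
/-- A point with separable residue field of degree at most two on a curve of genus zero. -/
theorem exists_separable_point_genus_zero (h0 : Module.finrank k (Coh.HH X (Coh.structureModule X) 0) = 1)
    (hg0 : Curv2.genus k X = 0) :
    ∃ x : X, IsClosed ({x} : Set X) ∧ Algebra.IsSeparable k (X.residueField x) ∧
      Module.finrank k (X.residueField x) ≤ 2 ∧ FiniteDimensional k (X.residueField x) := by
  classical
  obtain ⟨hp, hsm, hint, hdim', hflat, hsurj⟩ := CurveBC.bar_facts k X hdim h0
  haveI := hp; haveI := hsm; haveI := hint; haveI := hflat; haveI := hsurj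
  have hpb := CurveBC.isPullback_bar k X
  haveI := quasiSeparatedSpace_of_quasiSeparated (X ↘ Spec (CommRingCat.of k))
  haveI := QuasiCompact.compactSpace_of_compactSpace (X ↘ Spec (CommRingCat.of k))
  have h0' := CurveBC.finrank_h0 k (AlgebraicClosure k) (Curv2.bcFst k X (AlgebraicClosure k)) hpb h0
  have hK := ZetaCurve.isFunctionField k X hdim h0
  have hL := ZetaCurve.isFunctionField (AlgebraicClosure k) (Curv2.bc k X (AlgebraicClosure k)) hdim' h0'
  have hπ : Curv2.bcFst k X (AlgebraicClosure k) (genericPoint (Curv2.bc k X (AlgebraicClosure k))) =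
      genericPoint X := by
    have hs : Curv2.bcFst k X (AlgebraicClosure k) '' Set.univ = Set.univ :=
      Set.image_univ.trans hsurj.surj.range_eq
    have hgp := (genericPoint_spec (Curv2.bc k X (AlgebraicClosure k))).image
      (Curv2.bcFst k X (AlgebraicClosure k)).continuous
    rw [hs, closure_univ] at hgp
    exact hgp.eq (genericPoint_spec X)
  have hcl : ∀ z' : (Curv2.bc k X (AlgebraicClosure k)),
      IsClosed ({z'} : Set (Curv2.bc k X (AlgebraicClosure k))) →
      IsClosed ({Curv2.bcFst k X (AlgebraicClosure k) z'} : Set X) := by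
    haveI : IsIntegralHom (Spec.map (CommRingCat.ofHom (algebraMap k (AlgebraicClosure k)))) :=
      IsIntegralHom.SpecMap_iff.2 fun x => Algebra.IsIntegral.isIntegral x
    haveI : IsIntegralHom (Curv2.bcFst k X (AlgebraicClosure k)) :=
      MorphismProperty.of_isPullback hpb.flip inferInstance
    intro z' hz'
    have h := (Curv2.bcFst k X (AlgebraicClosure k)).isClosedMap _ hz'
    rwa [Set.image_singleton] at h
  -- the canonical module and its divisors
  obtain ⟨M, hM, hMd, -⟩ := CurveDuality.exists_inverse_deg k hdim (CurveBC.isInvertible_omega k X hdim h0)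
  rw [(CurveBC.canonical_invariants k X hdim h0).2, hg0] at hMd
  have hinv2 : Curv2.deg k X M 1 = 2 := by rw [hMd]; norm_num
  have hinv1 := (S1635.result k X hdim h0 hg0 M hM 2 (by norm_num) (by rw [hinv2]; norm_num)).1
  haveI := CurveCohLib.isNoetherian_of_proper (k := k) (X := X)
  have hq : Coh.IsQCoh M := (CurveDeg.isCoh_of_isInvertible hM).1
  obtain ⟨U₀, h₀, e₀, he₀⟩ := InvX.exists_frame hM (genericPoint X)
  have h₀' : genericPoint (Curv2.bc k X (AlgebraicClosure k)) ∈ Curv2.bcFst k X (AlgebraicClosure k) ⁻¹ᵁ U₀ :=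
    show Curv2.bcFst k X (AlgebraicClosure k) (genericPoint _) ∈ U₀ from hπ ▸ h₀
  set D := ZetaCurve.divisor k hdim hM he₀ h₀ with hDdef
  set D' := ZetaCurve.divisor (AlgebraicClosure k) hdim' (PicClLib.isInvertible_pullback (Curv2.bcFst k X (AlgebraicClosure k)) hM)
    (InvX.isFrame_pullElt (Curv2.bcFst k X (AlgebraicClosure k)) he₀) h₀' with hD'def
  have hell : Module.finrank k (FunFld.L D) = 2 + 1 :=
    (ZetaCurve.finrank_h0_eq_ell k hdim hM he₀ h₀).symm.trans hinv1
  have hdD : D.deg = (2 : ℤ) := by
    rw [hDdef, ZetaCurve.deg_divisor k hdim h0 hM he₀ h₀, hinv2]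
  have hdD' : D'.deg = (2 : ℤ) := by
    rw [hD'def, ZetaCurve.deg_divisor (AlgebraicClosure k) hdim' h0',
      CurveBC.deg_eq k (AlgebraicClosure k) (Curv2.bcFst k X (AlgebraicClosure k)) hpb M hq 1, hinv2]
  haveI := FFLib.L_finite hK.1 D
  let b := Module.finBasisOfFinrankEq k (FunFld.L D) hell
  let i₀ : Fin 3 := ⟨0, by omega⟩
  let x₀ : X.functionField := (b i₀).1
  have hx₀ : x₀ ≠ 0 := fun h => b.ne_zero i₀ (Subtype.ext h)
  let y : Fin 3 → X.functionField := fun i => x₀⁻¹ * (b i).1
  have hy : LinearIndependent k y :=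
    (b.linearIndependent.map' (FunFld.L D).subtype (Submodule.ker_subtype _)).map'
      (LinearMap.mulLeft k x₀⁻¹) (LinearMap.ker_eq_bot.2 (mul_right_injective₀ (inv_ne_zero hx₀)))
  have hy0 : y i₀ = 1 := inv_mul_cancel₀ hx₀
  let f := iotaAlg k hπ
  let s : Fin 3 → (Curv2.bc k X (AlgebraicClosure k)).functionField := fun i => f (y i)
  have hs : LinearIndependent (AlgebraicClosure k) s :=
    linearIndependent_map_tensor k f (injective_tensor k hπ) hy
  have hfx : f x₀ ≠ 0 := (map_ne_zero f).2 hx₀
  set E : FunFld.Divisor k X.functionField := D + FunFld.div k x₀ with hEdef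
  set E' : FunFld.Divisor (AlgebraicClosure k) (Curv2.bc k X (AlgebraicClosure k)).functionField :=
    D' + FunFld.div (AlgebraicClosure k) (f x₀) with hE'def
  have hyE : ∀ i, y i ∈ FunFld.L E := fun i => (FFLib.mul_mem_L_iff hK.1 hx₀ _).1 (by
    rw [show x₀ * y i = (b i).1 from mul_inv_cancel_left₀ hx₀ _]
    exact (b i).2)
  have hsE : ∀ i, s i ∈ FunFld.L E' := fun i => (FFLib.mul_mem_L_iff hL.1 hfx _).1 (by
    rw [show f x₀ * s i = f (b i).1 by rw [← map_mul, show x₀ * y i = (b i).1 from mul_inv_cancel_left₀ hx₀ _]]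
    exact iota_mem_L k hπ hdim hdim' hcl hM he₀ h₀ h₀' (b i).2)
  have hE0 : 0 ≤ E := fun P => by
    have h := hyE i₀ P
    rw [hy0, map_one, ← WithZero.exp_zero, WithZero.exp_le_exp] at h
    exact h
  have hE'0 : 0 ≤ E' := fun P => by
    have h := hsE i₀ P
    simp only [s] at h
    rw [hy0, map_one, map_one, ← WithZero.exp_zero, WithZero.exp_le_exp] at h
    exact h
  have hdE : E.deg = (2 : ℤ) := by
    rw [hEdef, FFLib.Divisor.deg_add, FFLib.deg_div hK.1, hdD, add_zero]
  have hdE' : E'.deg = (2 : ℤ) := by
    rw [hE'def, FFLib.Divisor.deg_add, FFLib.deg_div hL.1, hdD', add_zero]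
  -- transfer to points
  have key : (∃ Q : FunFld.Place k X.functionField, Algebra.IsSeparable k (FFLib.Res Q) ∧
      (Q.deg : ℤ) ≤ (2 : ℤ)) → ∃ x : X, IsClosed ({x} : Set X) ∧
      Algebra.IsSeparable k (X.residueField x) ∧
      Module.finrank k (X.residueField x) ≤ 2 ∧ FiniteDimensional k (X.residueField x) := by
    rintro ⟨Q, hQs, hQd⟩
    obtain ⟨z, rfl⟩ := (ZetaCurve.pl k X hdim).surjective Q
    haveI := hQs
    haveI := FFLib.residue_finite hK.1 (ZetaCurve.pl k X hdim z)
    let e := resEquiv k X hdim z
    refine ⟨z.1, z.2, Algebra.IsSeparable.of_algHom k _ e.toAlgHom, ?_, Module.Finite.equiv e.symm.toLinearEquiv⟩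
    rw [← ZetaCurve.deg_pl k X hdim z]
    omega
  apply key
  rcases finite_or_infinite k with hfin | hinf
  · obtain ⟨P, hP⟩ : ∃ P, 0 < E P := by
      by_contra! hno
      have : E = 0 := Finsupp.ext fun P => le_antisymm (hno P) (hE0 P)
      rw [this, FFLib.Divisor.deg_zero] at hdE
      omega
    haveI := FFLib.residue_finite hK.1 P
    refine ⟨P, Algebra.IsAlgebraic.isSeparable_of_perfectField, ?_⟩
    have h : (0 : FunFld.Divisor k X.functionField) ≤ E - Finsupp.single P 1 := fun R => by
      by_cases hR : P = R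
      · subst hR; simp; omega
      · simpa [hR] using hE0 R
    have h2 := FFLib.Divisor.deg_nonneg h
    rw [FFLib.Divisor.deg_sub, FFLib.Divisor.deg_single, one_mul, hdE] at h2
    linarith
  · obtain ⟨i, hxt, hsep⟩ : ∃ i, Transcendental k (y i) ∧ Algebra.IsSeparable k⟮y i⟯ X.functionField := by
      obtain ⟨p, hp⟩ := CharP.exists k
      rcases Nat.eq_zero_or_pos p with rfl | hp0
      · haveI : CharZero k := CharP.charP_to_charZero k
        let i₁ : Fin 3 := ⟨1, by omega⟩
        have ht : Transcendental k (y i₁) := fun h => by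
          obtain ⟨c, hc⟩ := hK.2 _ h
          have h2 := Fintype.linearIndependent_iff.1 hy (fun j => if j = i₁ then 1 else if j = i₀ then -c else 0)
            (by
              rw [Finset.sum_eq_add_of_mem i₁ i₀ (Finset.mem_univ _) (Finset.mem_univ _)
                (by simp [i₁, i₀]) (fun j _ hj => by simp [hj.1, hj.2])]
              rw [if_pos rfl, if_neg (by simp [i₁, i₀]), if_pos rfl, one_smul, neg_smul, hy0, ← hc,
                Algebra.smul_def, mul_one, add_neg_cancel]) i₁
          simp at h2
        haveI := FFLib.IsFF.finite_adjoin hK.1 ht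
        exact ⟨i₁, ht, isSeparable_of_charZero⟩
      · haveI : NeZero p := ⟨hp0.ne'⟩
        haveI : Fact p.Prime := CharP.char_is_prime_of_pos k p
        haveI : CharP X.functionField p := charP_of_injective_ringHom (algebraMap k X.functionField).injective p
        haveI : CharP (Curv2.bc k X (AlgebraicClosure k)).functionField p :=
          charP_of_injective_ringHom (algebraMap k (Curv2.bc k X (AlgebraicClosure k)).functionField).injective p
        obtain ⟨i, hi⟩ := exists_not_pow_of_lt hL p (d := 2) (by norm_num) hE'0 hdE'.le s hs hsE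
        refine ⟨i, fun h => ?_, ?_⟩
        · obtain ⟨c, hc⟩ := hK.2 _ h
          obtain ⟨d, hd⟩ := IsAlgClosed.exists_pow_nat_eq (algebraMap k (AlgebraicClosure k) c)
            (Nat.Prime.pos (Fact.out : p.Prime))
          refine hi (algebraMap _ _ d) ?_
          rw [← map_pow, hd]
          show _ = f (y i)
          rw [← hc, AlgHom.commutes]
          rfl
        · by_contra hns
          obtain ⟨w, hw⟩ := exists_pow_of_not_separating hK
            (isGeometric_of_injective k _ (injective_tensor k hπ)) p (algebraMap k (AlgebraicClosure k))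
            (iota k hπ).hom (iota_comp k hπ) hns
          exact hi w hw
    haveI := hsep
    obtain ⟨Q, hQs, hQd⟩ := exists_separable_place hK hxt
    refine ⟨Q, hQs, hQd.trans ?_⟩
    rw [← FFLib.deg_poles hK.1 hxt]
    have h : (0 : FunFld.Divisor k X.functionField) ≤ E - FFLib.poles (y i) := fun R => by
      have h1 := (FFLib.mem_L_iff_ord (fun e => hxt (by rw [e]; exact isAlgebraic_zero))).1 (hyE i) R
      have h2 := hE0 R
      simp only [Finsupp.coe_zero, Pi.zero_apply, Finsupp.sub_apply, FFLib.poles, Finsupp.mapRange_apply,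
        FFLib.div_apply hK.1] at h2 ⊢
      omega
    have h2 := FFLib.Divisor.deg_nonneg h
    rw [FFLib.Divisor.deg_sub, hdE] at h2
    linarith

end Groth.Agent.SepPoint
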