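import Groth.Agent.ZetaCurve.Bridge
import Groth.Agent.HyperP1.SeparableCurve
import Groth.Agent.CurveBC.Main

/-!
# The function field after extension to an algebraic closure
-/

noncomputable section

set_option autoImplicit false
set_option maxHeartbeats 1600000
set_option linter.style.haveILetI false
set_option linter.unusedSectionVars false
set_option backward.isDefEq.respectTransparency false
set_option backward.isDefEq.respectTransparency.types false

universe u

open CategoryTheory CategoryTheory.Limits AlgebraicGeometry TopologicalSpace TensorProduct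

namespace Groth.Agent.SepPoint

open Groth.Agent

attribute [local instance] ZetaCurve.ffAlg CurveBC.overBar

variable (k : Type u) [Field k] {X : Scheme.{u}} [X.Over (Spec (CommRingCat.of k))] [IsIntegral X]
  [IsIntegral (Curv2.bc k X (AlgebraicClosure k))]


variable (hπ : (Curv2.bcFst k X (AlgebraicClosure k)) (genericPoint ((Curv2.bc k X (AlgebraicClosure k)))) = genericPoint X)

/-- The map of function fields. -/
def iota : X.functionField ⟶ ((Curv2.bc k X (AlgebraicClosure k))).functionField :=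
  X.presheaf.stalkSpecializes (specializes_of_eq hπ) ≫ ((Curv2.bcFst k X (AlgebraicClosure k))).stalkMap (genericPoint ((Curv2.bc k X (AlgebraicClosure k))))

theorem iota_germ {U : X.Opens} (hU : genericPoint X ∈ U) (hU' : genericPoint ((Curv2.bc k X (AlgebraicClosure k))) ∈ (Curv2.bcFst k X (AlgebraicClosure k)) ⁻¹ᵁ U) (s : Γ(X, U)) :
    iota k hπ (X.presheaf.germ U _ hU s) = ((Curv2.bc k X (AlgebraicClosure k))).presheaf.germ ((Curv2.bcFst k X (AlgebraicClosure k)) ⁻¹ᵁ U) _ hU' (((Curv2.bcFst k X (AlgebraicClosure k))).app U s) := by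
  simp only [iota, CommRingCat.comp_apply, TopCat.Presheaf.germ_stalkSpecializes_apply]
  exact Scheme.Hom.germ_stalkMap_apply (Curv2.bcFst k X (AlgebraicClosure k)) U (genericPoint ((Curv2.bc k X (AlgebraicClosure k)))) hU' s

theorem iota_algebraMap_stalk (z' : (Curv2.bc k X (AlgebraicClosure k))) (a : X.presheaf.stalk ((Curv2.bcFst k X (AlgebraicClosure k)) z')) :
    iota k hπ (algebraMap (X.presheaf.stalk ((Curv2.bcFst k X (AlgebraicClosure k)) z')) X.functionField a) =
      algebraMap (((Curv2.bc k X (AlgebraicClosure k))).presheaf.stalk z') ((Curv2.bc k X (AlgebraicClosure k))).functionField (((Curv2.bcFst k X (AlgebraicClosure k))).stalkMap z' a) := by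
  obtain ⟨U, hU, s, rfl⟩ := X.presheaf.germ_exist a
  have hη : genericPoint X ∈ U := CurveCohLib.Polar.eta_mem hU
  have hη' : genericPoint ((Curv2.bc k X (AlgebraicClosure k))) ∈ (Curv2.bcFst k X (AlgebraicClosure k)) ⁻¹ᵁ U := show (Curv2.bcFst k X (AlgebraicClosure k)) (genericPoint ((Curv2.bc k X (AlgebraicClosure k)))) ∈ U from hπ ▸ hη
  refine Eq.trans (congrArg (iota k hπ) (TopCat.Presheaf.germ_stalkSpecializes_apply (F := X.presheaf) (U := U)
    (hy := hU) ((genericPoint_spec X).specializes (Set.mem_univ _)) s)) ?_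
  refine (iota_germ k hπ hη hη' s).trans ?_
  rw [Scheme.Hom.germ_stalkMap_apply]
  exact (TopCat.Presheaf.germ_stalkSpecializes_apply (F := ((Curv2.bc k X (AlgebraicClosure k))).presheaf) (U := (Curv2.bcFst k X (AlgebraicClosure k)) ⁻¹ᵁ U)
    (hy := (show z' ∈ (Curv2.bcFst k X (AlgebraicClosure k)) ⁻¹ᵁ U from hU)) ((genericPoint_spec ((Curv2.bc k X (AlgebraicClosure k)))).specializes (Set.mem_univ _)) _).symm

theorem iota_comp :
    (iota k hπ).hom.comp (algebraMap k X.functionField) =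
      (algebraMap (AlgebraicClosure k) ((Curv2.bc k X (AlgebraicClosure k))).functionField).comp (algebraMap k (AlgebraicClosure k)) := by
  have hw : (Curv2.bcFst k X (AlgebraicClosure k)) ≫ (X ↘ Spec (CommRingCat.of k)) =
      ((Curv2.bc k X (AlgebraicClosure k)) ↘ Spec (CommRingCat.of (AlgebraicClosure k))) ≫ Spec.map (CommRingCat.ofHom (algebraMap k (AlgebraicClosure k))) :=
    (CurveBC.isPullback_bar k X).w
  have : CommRingCat.ofHom (algebraMap k X.functionField) ≫ iota k hπ =
      CommRingCat.ofHom (algebraMap k (AlgebraicClosure k)) ≫ CommRingCat.ofHom (algebraMap (AlgebraicClosure k) ((Curv2.bc k X (AlgebraicClosure k))).functionField) := by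
    apply Spec.map_injective
    simp only [iota, Spec.map_comp, Category.assoc, ← HyperP1.fromSpecStalk_over,
      Scheme.SpecMap_stalkSpecializes_fromSpecStalk_assoc, Scheme.SpecMap_stalkMap_fromSpecStalk_assoc]
    rw [hw]
  exact congrArg CommRingCat.Hom.hom this

/-- The function field upstairs as an algebra over the ground field. -/
@[reducible] def barAlg : Algebra k ((Curv2.bc k X (AlgebraicClosure k))).functionField :=
  ((algebraMap (AlgebraicClosure k) ((Curv2.bc k X (AlgebraicClosure k))).functionField).comp (algebraMap k (AlgebraicClosure k))).toAlgebra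

attribute [local instance] barAlg

instance barTower : IsScalarTower k (AlgebraicClosure k) ((Curv2.bc k X (AlgebraicClosure k))).functionField := IsScalarTower.of_algebraMap_eq fun _ => rfl

/-- The map of function fields as an algebra map. -/
def iotaAlg : X.functionField →ₐ[k] ((Curv2.bc k X (AlgebraicClosure k))).functionField :=
  { (iota k hπ).hom with commutes' := fun c => congr($(iota_comp k hπ) c) }

/-- Linear disjointness from the constants. -/
theorem injective_tensor :
    Function.Injective (Algebra.TensorProduct.productMap (iotaAlg k hπ) (IsScalarTower.toAlgHom k (AlgebraicClosure k) ((Curv2.bc k X (AlgebraicClosure k))).functionField)) := by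
  obtain ⟨U, hU, hηU, -⟩ := exists_isAffineOpen_mem_and_subset (X := X) (U := ⊤) (x := genericPoint X) trivial
  obtain ⟨hV, hpo⟩ := EtPBC0.isPushout_appLE_of_opens (CurveBC.isPullback_bar k X)
    (isAffineOpen_top (Spec (CommRingCat.of k))) (isAffineOpen_top (Spec (CommRingCat.of (AlgebraicClosure k)))) hU
    (UT := ⊤) (US := ⊤) (by simp) (by simp)
  set V := (Curv2.bcFst k X (AlgebraicClosure k)) ⁻¹ᵁ U ⊓ ((Curv2.bc k X (AlgebraicClosure k)) ↘ Spec (CommRingCat.of (AlgebraicClosure k))) ⁻¹ᵁ ⊤ with hVdef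
  have hηV : genericPoint ((Curv2.bc k X (AlgebraicClosure k))) ∈ V := ⟨show (Curv2.bcFst k X (AlgebraicClosure k)) (genericPoint ((Curv2.bc k X (AlgebraicClosure k)))) ∈ U from hπ ▸ hηU, trivial⟩
  haveI : Nonempty V := ⟨⟨_, hηV⟩⟩
  haveI : Nonempty U := ⟨⟨_, hηU⟩⟩
  let gU : CommRingCat.of k ⟶ Γ(X, U) :=
    (Scheme.ΓSpecIso (CommRingCat.of k)).inv ≫ (X ↘ Spec (CommRingCat.of k)).appLE ⊤ U (by simp)
  let gV : CommRingCat.of (AlgebraicClosure k) ⟶ Γ((Curv2.bc k X (AlgebraicClosure k)), V) :=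
    (Scheme.ΓSpecIso (CommRingCat.of (AlgebraicClosure k))).inv ≫ ((Curv2.bc k X (AlgebraicClosure k)) ↘ Spec (CommRingCat.of (AlgebraicClosure k))).appLE ⊤ V inf_le_right
  have hpo' : IsPushout gU (CommRingCat.ofHom (algebraMap k (AlgebraicClosure k))) (((Curv2.bcFst k X (AlgebraicClosure k))).appLE U V inf_le_left) gV := by
    refine hpo.of_iso (Scheme.ΓSpecIso (CommRingCat.of k)) (Iso.refl _) (Scheme.ΓSpecIso (CommRingCat.of (AlgebraicClosure k)))
      (Iso.refl _) ?_ ?_ ?_ ?_
    · simp [gU]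
    · rw [← Scheme.ΓSpecIso_naturality]
      simp [Scheme.Hom.appLE, Scheme.Hom.appTop]
    · simp only [Iso.refl_hom, Category.id_comp, Category.comp_id]; rfl
    · simp only [gV, Iso.refl_hom, Category.comp_id, Iso.hom_inv_id_assoc]; rfl
  letI : Algebra k Γ(X, U) := gU.hom.toAlgebra
  letI : Algebra (AlgebraicClosure k) Γ((Curv2.bc k X (AlgebraicClosure k)), V) := gV.hom.toAlgebra
  letI : Algebra Γ(X, U) Γ((Curv2.bc k X (AlgebraicClosure k)), V) := (((Curv2.bcFst k X (AlgebraicClosure k))).appLE U V inf_le_left).hom.toAlgebra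
  letI : Algebra k Γ((Curv2.bc k X (AlgebraicClosure k)), V) := (gV.hom.comp (algebraMap k (AlgebraicClosure k))).toAlgebra
  haveI : IsScalarTower k (AlgebraicClosure k) Γ((Curv2.bc k X (AlgebraicClosure k)), V) := IsScalarTower.of_algebraMap_eq fun _ => rfl
  haveI : IsScalarTower k Γ(X, U) Γ((Curv2.bc k X (AlgebraicClosure k)), V) := IsScalarTower.of_algebraMap_eq' (by
    exact congrArg CommRingCat.Hom.hom hpo'.w.symm)
  haveI hP : Algebra.IsPushout k Γ(X, U) (AlgebraicClosure k) Γ((Curv2.bc k X (AlgebraicClosure k)), V) := CommRingCat.isPushout_iff_isPushout.1 hpo'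
  let gK : Γ(X, U) →ₐ[k] X.functionField :=
    { (X.presheaf.germ U _ hηU).hom with
      commutes' := fun c => by
        show X.presheaf.germ U _ hηU ((X ↘ Spec (CommRingCat.of k)).appLE ⊤ U (by simp) ((Scheme.ΓSpecIso (CommRingCat.of k)).inv c)) =
          X.presheaf.germ ⊤ _ trivial ((X ↘ Spec (CommRingCat.of k)).appTop ((Scheme.ΓSpecIso (CommRingCat.of k)).inv c))
        simp only [Scheme.Hom.appLE, Scheme.Hom.appTop, CommRingCat.comp_apply, TopCat.Presheaf.germ_res_apply']
        rfl }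
  let Φ := Algebra.TensorProduct.productMap (iotaAlg k hπ) (IsScalarTower.toAlgHom k (AlgebraicClosure k) ((Curv2.bc k X (AlgebraicClosure k))).functionField)
  let Ψ : Γ(X, U) ⊗[k] (AlgebraicClosure k) →ₐ[k] X.functionField ⊗[k] (AlgebraicClosure k) := Algebra.TensorProduct.map gK (AlgHom.id k (AlgebraicClosure k))
  let gL : Γ((Curv2.bc k X (AlgebraicClosure k)), V) →+* ((Curv2.bc k X (AlgebraicClosure k))).functionField := (((Curv2.bc k X (AlgebraicClosure k))).presheaf.germ V _ hηV).hom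
  have hgL : Function.Injective gL := germ_injective_of_isIntegral (X := (Curv2.bc k X (AlgebraicClosure k))) (genericPoint ((Curv2.bc k X (AlgebraicClosure k)))) hηV
  let e := Algebra.IsPushout.equiv k Γ(X, U) (AlgebraicClosure k) Γ((Curv2.bc k X (AlgebraicClosure k)), V)
  have hcomp : ∀ w, Φ (Ψ w) = gL (e w) := by
    intro w
    induction w using TensorProduct.induction_on with
    | zero => simp
    | tmul a c =>
      rw [Algebra.TensorProduct.map_tmul, Algebra.TensorProduct.productMap_apply_tmul, Algebra.IsPushout.equiv_tmul,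
        map_mul]
      congr 1
      · show iota k hπ (X.presheaf.germ U _ hηU a) = ((Curv2.bc k X (AlgebraicClosure k))).presheaf.germ V _ hηV (((Curv2.bcFst k X (AlgebraicClosure k))).appLE U V inf_le_left a)
        rw [iota_germ k hπ hηU (show (Curv2.bcFst k X (AlgebraicClosure k)) (genericPoint ((Curv2.bc k X (AlgebraicClosure k)))) ∈ U from hπ ▸ hηU)]
        simp only [Scheme.Hom.appLE, CommRingCat.comp_apply, TopCat.Presheaf.germ_res_apply']
      · show ((Curv2.bc k X (AlgebraicClosure k))).presheaf.germ ⊤ _ trivial (((Curv2.bc k X (AlgebraicClosure k)) ↘ Spec (CommRingCat.of (AlgebraicClosure k))).appTop ((Scheme.ΓSpecIso (CommRingCat.of (AlgebraicClosure k))).inv c)) =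
          ((Curv2.bc k X (AlgebraicClosure k))).presheaf.germ V _ hηV (((Curv2.bc k X (AlgebraicClosure k)) ↘ Spec (CommRingCat.of (AlgebraicClosure k))).appLE ⊤ V inf_le_right ((Scheme.ΓSpecIso (CommRingCat.of (AlgebraicClosure k))).inv c))
        simp only [Scheme.Hom.appLE, Scheme.Hom.appTop, CommRingCat.comp_apply, TopCat.Presheaf.germ_res_apply']
        rfl
    | add a b ha hb => simp only [map_add, ha, hb]
  haveI := functionField_isFractionRing_of_isAffineOpen X U hU
  have hden : ∀ z : X.functionField ⊗[k] (AlgebraicClosure k), ∃ b : Γ(X, U), b ≠ 0 ∧ ∃ w, (gK b ⊗ₜ[k] (1 : (AlgebraicClosure k))) * z = Ψ w := by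
    intro z
    induction z using TensorProduct.induction_on with
    | zero => exact ⟨1, one_ne_zero, 0, by simp⟩
    | tmul y c =>
      obtain ⟨a, b, hb, rfl⟩ := IsFractionRing.div_surjective (A := Γ(X, U)) y
      have hb0 : b ≠ 0 := nonZeroDivisors.ne_zero hb
      refine ⟨b, hb0, a ⊗ₜ c, ?_⟩
      rw [Algebra.TensorProduct.tmul_mul_tmul, one_mul, Algebra.TensorProduct.map_tmul, AlgHom.id_apply]
      congr 1
      show algebraMap Γ(X, U) X.functionField b *
        (algebraMap Γ(X, U) X.functionField a / algebraMap Γ(X, U) X.functionField b) = _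
      rw [mul_div_cancel₀]
      · rfl
      · exact (map_ne_zero_iff _ (IsFractionRing.injective Γ(X, U) X.functionField)).2 hb0
    | add z₁ z₂ h₁ h₂ =>
      obtain ⟨b₁, hb₁, w₁, hw₁⟩ := h₁
      obtain ⟨b₂, hb₂, w₂, hw₂⟩ := h₂
      refine ⟨b₁ * b₂, mul_ne_zero hb₁ hb₂, b₂ ⊗ₜ 1 * w₁ + b₁ ⊗ₜ 1 * w₂, ?_⟩
      rw [map_add, map_mul Ψ, map_mul Ψ, ← hw₁, ← hw₂]
      simp only [Ψ, Algebra.TensorProduct.map_tmul, AlgHom.id_apply, mul_add, ← mul_assoc,
        Algebra.TensorProduct.tmul_mul_tmul, map_mul, one_mul]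
      rw [mul_comm (gK b₂) (gK b₁)]
  refine (injective_iff_map_eq_zero Φ).2 fun z hz => ?_
  obtain ⟨b, hb, w, hw⟩ := hden z
  have h1 := hcomp w
  rw [← hw, map_mul, hz, mul_zero] at h1
  have hw0 : w = 0 := by
    apply e.injective
    rw [map_zero]
    exact hgL (h1.symm.trans (map_zero gL).symm)
  rw [hw0, map_zero] at hw
  have hu : IsUnit (gK b ⊗ₜ[k] (1 : (AlgebraicClosure k))) := by
    have h : IsUnit (gK b) := isUnit_iff_ne_zero.2 fun h => hb (germ_injective_of_isIntegral (X := X) (genericPoint X) hηU (h.trans (map_zero _).symm))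
    exact h.map (Algebra.TensorProduct.includeLeft (R := k) (S := k) (A := X.functionField) (B := (AlgebraicClosure k)))
  exact hu.mul_right_eq_zero.1 hw

variable [IsProper (X ↘ Spec (CommRingCat.of k))] [Smooth (X ↘ Spec (CommRingCat.of k))]
  (hdim : topologicalKrullDim X = 1)

/-- Riemann-Roch spaces map into those of the pulled back module. -/
theorem iota_mem_L [IsProper ((Curv2.bc k X (AlgebraicClosure k)) ↘ Spec (CommRingCat.of (AlgebraicClosure k)))] [Smooth ((Curv2.bc k X (AlgebraicClosure k)) ↘ Spec (CommRingCat.of (AlgebraicClosure k)))]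
    (hdim' : topologicalKrullDim ((Curv2.bc k X (AlgebraicClosure k))) = 1) (hcl : ∀ z' : (Curv2.bc k X (AlgebraicClosure k)), IsClosed ({z'} : Set ((Curv2.bc k X (AlgebraicClosure k)))) → IsClosed ({(Curv2.bcFst k X (AlgebraicClosure k)) z'} : Set X))
    {M : X.Modules} (hM : PicF.IsInvertible M) {U₀ : X.Opens} {e₀ : Γ(M, U₀)}
    (he₀ : InvX.IsFrame e₀) (h₀ : genericPoint X ∈ U₀) (h₀' : genericPoint ((Curv2.bc k X (AlgebraicClosure k))) ∈ (Curv2.bcFst k X (AlgebraicClosure k)) ⁻¹ᵁ U₀)
    {x : X.functionField} (hx : x ∈ FunFld.L (ZetaCurve.divisor k hdim hM he₀ h₀)) :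
    iota k hπ x ∈ FunFld.L (ZetaCurve.divisor (AlgebraicClosure k) hdim' (PicClLib.isInvertible_pullback (Curv2.bcFst k X (AlgebraicClosure k)) hM)
      (InvX.isFrame_pullElt (Curv2.bcFst k X (AlgebraicClosure k)) he₀) h₀') := by
  intro P
  obtain ⟨z', rfl⟩ := (ZetaCurve.pl (AlgebraicClosure k) (Curv2.bc k X (AlgebraicClosure k)) hdim').surjective P
  let z : ZetaCurve.Pt X := ⟨(Curv2.bcFst k X (AlgebraicClosure k)) z'.1, hcl z'.1 z'.2⟩
  obtain ⟨U, hzU, e, he⟩ := InvX.exists_frame hM z.1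
  have hU : genericPoint X ∈ U := CurveCohLib.Polar.eta_mem hzU
  have hU' : genericPoint ((Curv2.bc k X (AlgebraicClosure k))) ∈ (Curv2.bcFst k X (AlgebraicClosure k)) ⁻¹ᵁ U := show (Curv2.bcFst k X (AlgebraicClosure k)) (genericPoint ((Curv2.bc k X (AlgebraicClosure k)))) ∈ U from hπ ▸ hU
  rw [ZetaCurve.exp_divisor (AlgebraicClosure k) hdim' (PicClLib.isInvertible_pullback (Curv2.bcFst k X (AlgebraicClosure k)) hM) (InvX.isFrame_pullElt (Curv2.bcFst k X (AlgebraicClosure k)) he₀) h₀'
    (InvX.isFrame_pullElt (Curv2.bcFst k X (AlgebraicClosure k)) he) hU' (z := z') hzU]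
  set r := ZetaCurve.ratio he₀ h₀ hU e with hr
  have hratio : ZetaCurve.ratio (InvX.isFrame_pullElt (Curv2.bcFst k X (AlgebraicClosure k)) he₀) h₀' hU' (InvX.pullElt (Curv2.bcFst k X (AlgebraicClosure k)) e) = iota k hπ r := by
    obtain ⟨g, hg, hgr⟩ := ZetaCurve.exists_coord_ratio he₀ (inf_le_left : U₀ ⊓ U ≤ U₀) (show genericPoint X ∈ U₀ ⊓ U from ⟨h₀, hU⟩)
      (AModX.res M inf_le_right e)
    have hr' : r = X.presheaf.germ (U₀ ⊓ U) _ ⟨h₀, hU⟩ g := by
      rw [← hgr]
      exact ZetaCurve.ratio_eq he₀ (by rw [ZetaCurve.ratio_spec, ZetaCurve.gM_res])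
    rw [hr', iota_germ k hπ (show genericPoint X ∈ U₀ ⊓ U from ⟨h₀, hU⟩) (show genericPoint ((Curv2.bc k X (AlgebraicClosure k))) ∈ (Curv2.bcFst k X (AlgebraicClosure k)) ⁻¹ᵁ (U₀ ⊓ U) from ⟨h₀', hU'⟩)]
    refine ZetaCurve.ratio_eq _ ?_
    rw [← ZetaCurve.gM_res (((Curv2.bcFst k X (AlgebraicClosure k))).preimage_mono inf_le_left) (show genericPoint ((Curv2.bc k X (AlgebraicClosure k))) ∈ (Curv2.bcFst k X (AlgebraicClosure k)) ⁻¹ᵁ (U₀ ⊓ U) from ⟨h₀', hU'⟩)]
    erw [← ZetaCurve.gM_smul]
    rw [InvX.res_pullElt (Curv2.bcFst k X (AlgebraicClosure k)) inf_le_left e₀, ← InvX.pullElt_smul, ← hg, ← InvX.res_pullElt (Curv2.bcFst k X (AlgebraicClosure k)) inf_le_right e,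
      ZetaCurve.gM_res]
  rw [hratio]
  have h1 := hx (ZetaCurve.pl k X hdim z)
  rw [ZetaCurve.exp_divisor k hdim hM he₀ h₀ he hU (z := z) hzU] at h1
  have hr0 : r ≠ 0 := ZetaCurve.ratio_ne_zero he₀ h₀ he hU
  have hq : CurveCohLib.Polar.InR z.1 (x / r) := by
    refine (ZetaCurve.inR_iff k X hdim z _).2 ?_
    rw [map_div₀]
    exact div_le_one_of_le₀ h1 zero_le
  obtain ⟨a, ha⟩ := hq
  have h2 : (ZetaCurve.pl (AlgebraicClosure k) (Curv2.bc k X (AlgebraicClosure k)) hdim' z').1 (iota k hπ (x / r)) ≤ 1 := by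
    refine (ZetaCurve.inR_iff (AlgebraicClosure k) (Curv2.bc k X (AlgebraicClosure k)) hdim' z' _).1 ⟨((Curv2.bcFst k X (AlgebraicClosure k))).stalkMap z'.1 a, ?_⟩
    rw [← ha]
    exact (iota_algebraMap_stalk k hπ z'.1 a).symm
  calc (ZetaCurve.pl (AlgebraicClosure k) (Curv2.bc k X (AlgebraicClosure k)) hdim' z').1 (iota k hπ x)
      = (ZetaCurve.pl (AlgebraicClosure k) (Curv2.bc k X (AlgebraicClosure k)) hdim' z').1 (iota k hπ (x / r)) * (ZetaCurve.pl (AlgebraicClosure k) (Curv2.bc k X (AlgebraicClosure k)) hdim' z').1 (iota k hπ r) := by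
        rw [← map_mul, ← map_mul, div_mul_cancel₀ _ hr0]
    _ ≤ _ := mul_le_of_le_one_left' h2

end Groth.Agent.SepPoint
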